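import Cfsg.Prelude.Def_PLocal
import Cfsg.Agent.PGroupExtra.RegularPowers
import Cfsg.Agent.PGroup.Frattini
import Cfsg.Agent.PGroup.ClassTwo
import Cfsg.Agent.PSolv.Cores
import Cfsg.Agent.Known.NormalRankTwo
import Cfsg.Prelude.Def_OddOrderLocal

/-!
Regular `p`-groups (Kemhadze's criterion) and small facts on `p`-groups of rank two.
-/

namespace Cfsg.Agent.Stability

open Subgroup
open scoped commutatorElement

variable {G : Type*} [Group G] {p : ℕ}

theorem map_powerClosure_le {H : Type*} [Group H] (f : G →* H) (n : ℕ) (K : Subgroup G) :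
    (Cfsg.powerClosure p n K).map f ≤ Cfsg.powerClosure p n (K.map f) := by
  rw [Cfsg.powerClosure, MonoidHom.map_closure, closure_le]
  rintro _ ⟨_, ⟨x, hx, rfl⟩, rfl⟩
  rw [map_pow]
  exact subset_closure ⟨f x, mem_map_of_mem f hx, rfl⟩

theorem conj_mem_powerClosure {H : Subgroup G} {g : G} (hg : ∀ x ∈ H, g * x * g⁻¹ ∈ H) {n : ℕ}
    {y : G} (hy : y ∈ Cfsg.powerClosure p n H) : g * y * g⁻¹ ∈ Cfsg.powerClosure p n H := by
  have h := map_powerClosure_le (p := p) (MulAut.conj g).toMonoidHom n H ⟨y, hy, rfl⟩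
  refine closure_mono (fun _ hz => ?_) h
  obtain ⟨x, hx, rfl⟩ := hz
  obtain ⟨w, hw, rfl⟩ := hx
  exact ⟨_, hg w hw, rfl⟩

/-- Kemhadze's condition. -/
def PowerCond (p : ℕ) (G : Type*) [Group G] : Prop :=
  ∀ a b : G, ∃ c ∈ ⁅closure ({a, b} : Set G), closure ({a, b} : Set G)⁆,
    (a * b) ^ p = a ^ p * b ^ p * c ^ p

/-- Under the condition, `p`-th powers of a subgroup are closed under products. -/
theorem PowerCond.exists_pow [Finite G] [Fact p.Prime] (hG : IsPGroup p G) (h : PowerCond p G)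
    (K : Subgroup G) : ∀ y ∈ Cfsg.powerClosure p 1 K, ∃ x ∈ K, y = x ^ p := by
  induction hc : Nat.card K using Nat.strong_induction_on generalizing K with
  | _ m ih =>
  subst hc
  have small : ∀ (J : Subgroup G), J < K → ∀ u ∈ J, ∀ v ∈ J, ∃ z ∈ K, u ^ p * v ^ p = z ^ p := by
    intro J hJ u hu v hv
    have hm : ∀ w ∈ J, w ^ p ∈ Cfsg.powerClosure p 1 J := fun w hw =>
      subset_closure ⟨w, hw, by rw [pow_one]⟩
    obtain ⟨z, hz, he⟩ := ih _ (Set.ncard_lt_ncard hJ (Set.toFinite _)) J rfl _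
      (mul_mem (hm u hu) (hm v hv))
    exact ⟨z, hJ.le hz, he⟩
  have mulcl : ∀ x ∈ K, ∀ y ∈ K, ∃ z ∈ K, x ^ p * y ^ p = z ^ p := by
    intro x hx y hy
    obtain ⟨c, hc, hxy⟩ := h x y
    have hJK : closure ({x, y} : Set G) ≤ K :=
      (closure_le K).2 (by rintro w (rfl | rfl) <;> assumption)
    have hcK : c ∈ ⁅K, K⁆ := commutator_mono hJK hJK hc
    have hDK : ⁅K, K⁆ ≤ K := commutator_le_self K
    have he : x ^ p * y ^ p = (x * y) ^ p * (c⁻¹) ^ p := by
      rw [hxy, inv_pow, mul_inv_cancel_right]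
    by_cases hK : ⁅K, K⁆ = ⊥
    · rw [hK, mem_bot] at hcK
      exact ⟨x * y, mul_mem hx hy, by rw [he, hcK, inv_one, one_pow, mul_one]⟩
    set J := zpowers (x * y) ⊔ ⁅K, K⁆ with hJ
    have hJlt : J < K := by
      refine lt_of_le_of_ne (sup_le (zpowers_le.2 (mul_mem hx hy)) hDK) fun e => hK ?_
      exact Regular.commutator_eq_bot_of_generated (hG.to_subgroup K) (mul_mem hx hy)
        (by conv_lhs => rw [← e])
    obtain ⟨z, hz, hez⟩ := small J hJlt (x * y) (mem_sup_left (mem_zpowers _)) c⁻¹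
      (mem_sup_right (inv_mem hcK))
    exact ⟨z, hz, by rw [he, hez]⟩
  intro w hw
  induction hw using closure_induction with
  | mem w hw =>
    obtain ⟨x, hx, rfl⟩ := hw
    exact ⟨x, hx, by rw [pow_one]⟩
  | one => exact ⟨1, one_mem _, (one_pow _).symm⟩
  | mul a b _ _ ha hb =>
    obtain ⟨u, hu, rfl⟩ := ha
    obtain ⟨v, hv, rfl⟩ := hb
    exact mulcl u hu v hv
  | inv a _ ha =>
    obtain ⟨u, hu, rfl⟩ := ha
    exact ⟨u⁻¹, inv_mem hu, (inv_pow _ _).symm⟩

theorem PowerCond.powerClosure_comp [Finite G] [Fact p.Prime] (hG : IsPGroup p G)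
    (h : PowerCond p G) (n : ℕ) (K : Subgroup G) :
    Cfsg.powerClosure p n (Cfsg.powerClosure p 1 K) ≤ Cfsg.powerClosure p (n + 1) K := by
  refine (closure_le _).2 ?_
  rintro _ ⟨w, hw, rfl⟩
  obtain ⟨x, hx, rfl⟩ := h.exists_pow hG K w hw
  exact subset_closure ⟨x, hx, by rw [← pow_mul, ← pow_succ']⟩

/-- Kemhadze's condition implies regularity. -/
theorem PowerCond.isRegular [Finite G] [Fact p.Prime] (hG : IsPGroup p G) (h : PowerCond p G) :
    Cfsg.IsRegularPGroup p G := by
  refine ⟨hG, fun a b n => ?_⟩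
  induction n generalizing a b with
  | zero => exact ⟨1, one_mem _, by simp⟩
  | succ n ih =>
    set H := closure ({a, b} : Set G) with hH
    set N := Cfsg.powerClosure p 1 ⁅H, H⁆ with hN
    have haH : a ∈ H := subset_closure (by simp)
    have hbH : b ∈ H := subset_closure (by simp)
    have hDH : ⁅H, H⁆ ≤ H := commutator_le_self H
    have hconjD : ∀ g ∈ H, ∀ x ∈ ⁅H, H⁆, g * x * g⁻¹ ∈ ⁅H, H⁆ := by
      intro g hg x hx
      rw [show g * x * g⁻¹ = ⁅g, x⁆ * x by simp [commutatorElement_def]]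
      exact mul_mem (commutator_mem_commutator hg (hDH hx)) hx
    have hconj : ∀ g ∈ H, ∀ y ∈ N, g * y * g⁻¹ ∈ N := fun g hg y hy =>
      conj_mem_powerClosure (hconjD g hg) hy
    -- `p`-th powers commute with `H` modulo `N`
    have key : ∀ x ∈ H, ∀ g ∈ H, ⁅x ^ p, g⁆ ∈ N := by
      intro x hx g hg
      obtain ⟨d, hd, he⟩ := h x (x⁻¹ * (g * x * g⁻¹))
      have hk : x⁻¹ * (g * x * g⁻¹) ∈ ⁅H, H⁆ := by
        have := commutator_mem_commutator (inv_mem hx) hg
        rwa [show ⁅x⁻¹, g⁆ = x⁻¹ * (g * x * g⁻¹) by simp [commutatorElement_def, mul_assoc]] at this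
      have hd' : d ∈ ⁅H, H⁆ := by
        refine commutator_mono ?_ ?_ hd <;>
          exact (closure_le H).2 (by rintro w (rfl | rfl); exacts [hx, hDH hk])
      rw [mul_inv_cancel_left, conj_pow] at he
      have hmem : (x⁻¹ * (g * x * g⁻¹)) ^ p * d ^ p ∈ N :=
        mul_mem (subset_closure ⟨_, hk, by rw [pow_one]⟩) (subset_closure ⟨_, hd', by rw [pow_one]⟩)
      have he' : ⁅x ^ p, g⁆ = x ^ p * ((x⁻¹ * (g * x * g⁻¹)) ^ p * d ^ p)⁻¹ * (x ^ p)⁻¹ := by
        rw [commutatorElement_def,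
          show x ^ p * g * (x ^ p)⁻¹ * g⁻¹ = x ^ p * (g * x ^ p * g⁻¹)⁻¹ by group, he]
        group
      rw [he']
      exact hconj _ (H.pow_mem hx p) _ (inv_mem hmem)
    -- derived subgroups of subgroups generated by such elements lie in `N`
    have hgen : ∀ u ∈ H, ∀ v ∈ H, (∀ g ∈ H, ⁅v, g⁆ ∈ N) →
        ⁅closure ({u, v} : Set G), closure ({u, v} : Set G)⁆ ≤ N := by
      intro u hu v hv hvN
      haveI : (N.subgroupOf H).Normal := ⟨fun x hx g => hconj g g.2 _ hx⟩
      let π := QuotientGroup.mk' (N.subgroupOf H)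
      have hle : closure ({u, v} : Set G) ≤ H :=
        (closure_le H).2 (by rintro w (rfl | rfl) <;> assumption)
      have hmk : ∀ x : H, π x = 1 ↔ (x : G) ∈ N := fun x => by
        simp [π, QuotientGroup.eq_one_iff, mem_subgroupOf]
      have hcomm : IsMulCommutative (closure ({π ⟨u, hu⟩, π ⟨v, hv⟩} : Set _)) := by
        refine isMulCommutative_closure fun x hx y hy => ?_
        have h1 : Commute (π ⟨v, hv⟩) (π ⟨u, hu⟩) := by
          rw [commute_iff_eq, ← commutatorElement_eq_one_iff_mul_comm, ← map_commutatorElement, hmk]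
          exact hvN u hu
        rcases hx with rfl | rfl <;> rcases hy with rfl | rfl
        exacts [rfl, h1.symm.eq, h1.eq, rfl]
      refine commutator_le.2 fun x hx y hy => ?_
      have hx' : π ⟨x, hle hx⟩ ∈ closure ({π ⟨u, hu⟩, π ⟨v, hv⟩} : Set _) ∧
          π ⟨y, hle hy⟩ ∈ closure ({π ⟨u, hu⟩, π ⟨v, hv⟩} : Set _) := by
        have hh : ∀ z (hz : z ∈ closure ({u, v} : Set G)),
            π ⟨z, hle hz⟩ ∈ closure ({π ⟨u, hu⟩, π ⟨v, hv⟩} : Set _) := by
          intro z hz
          induction hz using closure_induction with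
          | mem z hz => rcases hz with rfl | rfl <;> exact subset_closure (by simp)
          | one => exact one_mem _
          | mul z w hz hw ihz ihw =>
            have := mul_mem ihz ihw
            rw [← map_mul] at this
            exact this
          | inv z hz ihz =>
            have := inv_mem ihz
            rw [← map_inv] at this
            exact this
        exact ⟨hh x hx, hh y hy⟩
      have h2 : (⁅(⟨x, hle hx⟩ : H), (⟨y, hle hy⟩ : H)⁆ : H).1 ∈ N := by
        rw [← hmk, map_commutatorElement, commutatorElement_eq_one_iff_mul_comm]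
        exact congrArg Subtype.val (hcomm.is_comm.comm ⟨_, hx'.1⟩ ⟨_, hx'.2⟩)
      exact h2
    obtain ⟨d, hd, he⟩ := h a b
    set x := a ^ p
    set y := b ^ p
    set z := d ^ p
    have hxH : x ∈ H := H.pow_mem haH p
    have hyH : y ∈ H := H.pow_mem hbH p
    have hzN : z ∈ N := subset_closure ⟨d, hd, by rw [pow_one]⟩
    have hzN' : ∀ g ∈ H, ⁅z, g⁆ ∈ N := fun g hg => by
      rw [commutatorElement_def, show z * g * z⁻¹ * g⁻¹ = z * (g * z⁻¹ * g⁻¹) by group]
      exact mul_mem hzN (hconj g hg _ (inv_mem hzN))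
    have hmono : ∀ J : Subgroup G, J ≤ N →
        Cfsg.powerClosure p n J ≤ Cfsg.powerClosure p (n + 1) ⁅H, H⁆ := fun J hJ =>
      (Regular.powerClosure_mono hJ).trans (h.powerClosure_comp hG n _)
    obtain ⟨c1, hc1, he1⟩ := ih (x * y) z
    obtain ⟨c2, hc2, he2⟩ := ih x y
    have hc1' := hmono _ (hgen (x * y) (mul_mem hxH hyH) z (hDH (pow_mem hd p)) hzN') hc1
    have hc2' := hmono _ (hgen x hxH y hyH fun g hg => key b hbH g hg) hc2
    refine ⟨c2 * z ^ p ^ n * c1, mul_mem (mul_mem hc2' (subset_closure ⟨d, hd, ?_⟩)) hc1', ?_⟩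
    · show (d ^ p) ^ p ^ n = _
      rw [← pow_mul, ← pow_succ']
    · rw [pow_succ', pow_mul, pow_mul, pow_mul, he, he1, he2]
      simp only [mul_assoc]
      rfl

/-- Regular groups satisfy Kemhadze's condition. -/
theorem powerCond_of_isRegular [Finite G] [Fact p.Prime] (h : Cfsg.IsRegularPGroup p G) :
    PowerCond p G := by
  intro a b
  obtain ⟨c, hc, he⟩ := h.2 a b 1
  obtain ⟨d, hd, rfl⟩ := Regular.exists_pow_of_mem_powerClosure h 1 _ c hc
  exact ⟨d, hd, by simpa using he⟩

/-- Regular 2-groups are abelian. -/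
theorem comm_of_isRegular_two [Finite G] (h : Cfsg.IsRegularPGroup 2 G) (a b : G) :
    a * b = b * a := by
  haveI : Fact (Nat.Prime 2) := ⟨Nat.prime_two⟩
  set H := closure ({a, b} : Set G) with hH
  have haH : a ∈ H := subset_closure (by simp)
  have hbH : b ∈ H := subset_closure (by simp)
  set D := ⁅H, H⁆ with hD
  set N := Cfsg.powerClosure 2 1 D with hN
  have hDH : D ≤ H := commutator_le_self H
  have hconj : ∀ g ∈ H, ∀ y ∈ N, g * y * g⁻¹ ∈ N := fun g hg y hy =>
    conj_mem_powerClosure (fun x hx => by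
      rw [show g * x * g⁻¹ = ⁅g, x⁆ * x by simp [commutatorElement_def]]
      exact mul_mem (commutator_mem_commutator hg (hDH hx)) hx) hy
  haveI : (N.subgroupOf H).Normal := ⟨fun x hx g => hconj g g.2 _ hx⟩
  let π := QuotientGroup.mk' (N.subgroupOf H)
  have hmk : ∀ x : H, π x = 1 ↔ (x : G) ∈ N := fun x => by
    simp [π, QuotientGroup.eq_one_iff, mem_subgroupOf]
  have hsq : ∀ u v : H, u = ⟨a, haH⟩ → v = ⟨b, hbH⟩ → π (u * v) = π (v * u) := by
    rintro u v rfl rfl
    obtain ⟨c, hc, he⟩ := h.2 a b 1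
    have h1 : π ⟨c, (powerClosure_le_self hc)⟩ = 1 := (hmk _).2 hc
    have h2 : ((⟨a, haH⟩ : H) * ⟨b, hbH⟩) ^ 2 = (⟨a, haH⟩ : H) ^ 2 * (⟨b, hbH⟩ : H) ^ 2 *
        ⟨c, (powerClosure_le_self hc)⟩ := Subtype.ext (by simpa using he)
    have h3 := congrArg π h2
    rw [map_mul _ _ (⟨c, _⟩ : H), h1, mul_one] at h3
    simp only [map_pow, map_mul, pow_two] at h3 ⊢
    rw [mul_assoc, mul_assoc] at h3
    have := mul_left_cancel h3
    rw [← mul_assoc, ← mul_assoc] at this
    exact (mul_right_cancel this).symm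
  have hcomm : IsMulCommutative (closure ({π ⟨a, haH⟩, π ⟨b, hbH⟩} : Set _)) := by
    refine isMulCommutative_closure fun x hx y hy => ?_
    have h1 : Commute (π ⟨a, haH⟩) (π ⟨b, hbH⟩) := by
      rw [commute_iff_eq, ← map_mul, ← map_mul]
      exact hsq _ _ rfl rfl
    rcases hx with rfl | rfl <;> rcases hy with rfl | rfl
    exacts [rfl, h1.eq, h1.symm.eq, rfl]
  have hDN : D ≤ N := by
    refine commutator_le.2 fun x hx y hy => ?_
    have hh : ∀ z (hz : z ∈ H), π ⟨z, hz⟩ ∈ closure ({π ⟨a, haH⟩, π ⟨b, hbH⟩} : Set _) := by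
      intro z hz
      induction hz using closure_induction with
      | mem z hz => rcases hz with rfl | rfl <;> exact subset_closure (by simp)
      | one => exact one_mem _
      | mul z w hz hw ihz ihw =>
        have := mul_mem ihz ihw
        rw [← map_mul] at this
        exact this
      | inv z hz ihz =>
        have := inv_mem ihz
        rw [← map_inv] at this
        exact this
    have h2 : (⁅(⟨x, hx⟩ : H), (⟨y, hy⟩ : H)⁆ : H).1 ∈ N := by
      rw [← hmk, map_commutatorElement, commutatorElement_eq_one_iff_mul_comm]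
      exact congrArg Subtype.val (hcomm.is_comm.comm ⟨_, hh x hx⟩ ⟨_, hh y hy⟩)
    exact h2
  have hD2 : IsPGroup 2 D := h.1.to_subgroup D
  have hNF : N ≤ (frattini ↥D).map D.subtype := (closure_le _).2 fun w hw => by
    obtain ⟨x, hx, rfl⟩ := hw
    exact ⟨⟨x, hx⟩ ^ 2, PGroup.pow_mem_frattini hD2 _, by simp⟩
  have hbot : D = ⊥ := by
    by_contra hne
    haveI : Nontrivial D := (nontrivial_iff_ne_bot D).2 hne
    have hlt : frattini ↥D ≠ ⊤ := by
      intro htop
      have := frattini_nongenerating (G := ↥D) (K := ⊥) (by rw [htop]; simp)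
      exact top_ne_bot this.symm
    refine hlt (eq_top_iff.2 fun x _ => ?_)
    obtain ⟨w, hw, he⟩ := (hDN.trans hNF) x.2
    exact (Subtype.ext he : w = x) ▸ hw
  have := commutator_mem_commutator haH hbH
  rw [← hD, hbot, mem_bot, commutatorElement_eq_one_iff_mul_comm] at this
  exact this
where
  powerClosure_le_self {a b : G} {c : G}
      (hc : c ∈ Cfsg.powerClosure 2 1 ⁅closure ({a, b} : Set G), closure ({a, b} : Set G)⁆) :
      c ∈ closure ({a, b} : Set G) := by
    refine commutator_le_self _ (closure_le _ |>.2 ?_ hc)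
    rintro _ ⟨x, hx, rfl⟩
    exact pow_mem hx _

/-- For odd `p`, a noncyclic normal subgroup contains a normal elementary abelian subgroup of
order `p²` of the whole `p`-group. -/
theorem exists_normal_elemAb_sq_le [Finite G] [Fact p.Prime] (hp : p ≠ 2) (hG : IsPGroup p G)
    (S : Subgroup G) [hS : S.Normal] (hnc : ¬ IsCyclic S) :
    ∃ A : Subgroup G, A ≤ S ∧ A.Normal ∧ Cfsg.IsElementaryAbelian p A ∧ Nat.card A = p ^ 2 := by
  obtain ⟨E, hEn, hEc, -, hEp⟩ := Known.exists_normal_elemAb_sq hp (hG.to_subgroup S) hnc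
  haveI := hEn
  -- the elements of `S` that are central modulo the centre of `S`
  let T : Subgroup G :=
    { carrier := {x | x ∈ S ∧ ∀ s ∈ S, ∀ t ∈ S, t * ⁅x, s⁆ = ⁅x, s⁆ * t}
      one_mem' := ⟨one_mem S, fun s _ t _ => by simp⟩
      mul_mem' := by
        rintro x y ⟨hx, hx'⟩ ⟨hy, hy'⟩
        refine ⟨mul_mem hx hy, fun s hs t ht => ?_⟩
        have e : ⁅x * y, s⁆ = x * ⁅y, s⁆ * x⁻¹ * ⁅x, s⁆ := by
          simp only [commutatorElement_def]; group
        rw [e, hy' s hs x hx, mul_inv_cancel_right, ← mul_assoc, hy' s hs t ht, mul_assoc,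
          hx' s hs t ht, ← mul_assoc]
      inv_mem' := by
        rintro x ⟨hx, hx'⟩
        refine ⟨inv_mem hx, fun s hs t ht => ?_⟩
        have e : ⁅x⁻¹, s⁆ = (x⁻¹ * ⁅x, s⁆ * x)⁻¹ := by simp only [commutatorElement_def]; group
        have hc : x⁻¹ * ⁅x, s⁆ * x = ⁅x, s⁆ := by
          rw [hx' s hs x⁻¹ (inv_mem hx), inv_mul_cancel_right]
        rw [e, hc]
        exact (Commute.inv_right (hx' s hs t ht : Commute t _)).eq }
  have hTS : T ≤ S := fun x hx => hx.1
  haveI hTn : T.Normal := ⟨fun x ⟨hx, hx'⟩ g => by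
    refine ⟨hS.conj_mem x hx g, fun s hs t ht => ?_⟩
    have h1 := hx' (g⁻¹ * s * g) (by simpa using hS.conj_mem s hs g⁻¹) (g⁻¹ * t * g)
      (by simpa using hS.conj_mem t ht g⁻¹)
    have e : ⁅g * x * g⁻¹, s⁆ = g * ⁅x, g⁻¹ * s * g⁆ * g⁻¹ := by
      simp only [commutatorElement_def]; group
    rw [e]
    calc t * (g * ⁅x, g⁻¹ * s * g⁆ * g⁻¹) = g * (g⁻¹ * t * g * ⁅x, g⁻¹ * s * g⁆) * g⁻¹ := by group
      _ = g * (⁅x, g⁻¹ * s * g⁆ * (g⁻¹ * t * g)) * g⁻¹ := by rw [h1]
      _ = g * ⁅x, g⁻¹ * s * g⁆ * g⁻¹ * t := by group⟩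
  have hclass : commutator ↥T ≤ Subgroup.center ↥T := by
    rw [commutator_eq_closure, closure_le]
    rintro _ ⟨x, y, rfl⟩
    rw [SetLike.mem_coe, Subgroup.mem_center_iff]
    exact fun t => Subtype.ext (x.2.2 y (hTS y.2) t (hTS t.2))
  let Ω : Subgroup G :=
    { carrier := {x | x ∈ T ∧ x ^ p = 1}
      one_mem' := ⟨one_mem T, one_pow p⟩
      mul_mem' := by
        rintro x y ⟨hx, hx'⟩ ⟨hy, hy'⟩
        refine ⟨mul_mem hx hy, ?_⟩
        have h1 : (⟨x, hx⟩ : T) ^ p ∈ Subgroup.center ↥T := by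
          rw [show (⟨x, hx⟩ : T) ^ p = 1 from Subtype.ext (by simpa using hx')]
          exact one_mem _
        have h2 := congrArg Subtype.val (PGroup.mul_pow_of_classTwo hclass
          ((Fact.out : p.Prime).odd_of_ne_two hp) (y := ⟨y, hy⟩) h1)
        simpa [hx', hy'] using h2
      inv_mem' := by
        rintro x ⟨hx, hx'⟩
        exact ⟨inv_mem hx, by rw [inv_pow, hx', inv_one]⟩ }
  haveI : Ω.Normal := ⟨fun x ⟨hx, hx'⟩ g =>
    ⟨hTn.conj_mem x hx g, by rw [conj_pow, hx', mul_one, mul_inv_cancel]⟩⟩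
  have hEΩ : E.map S.subtype ≤ Ω := by
    rintro _ ⟨e, he, rfl⟩
    refine ⟨⟨e.2, fun s hs t ht => ?_⟩, congrArg Subtype.val (hEp e he)⟩
    have hs' : ⁅e, (⟨s, hs⟩ : S)⁆ ∈ ⁅E, (⊤ : Subgroup S)⁆ :=
      commutator_mem_commutator he (mem_top _)
    have hlt : ⁅E, (⊤ : Subgroup S)⁆ ≤ Subgroup.center ↥S := by
      haveI := (hG.to_subgroup S).isNilpotent
      set C := ⁅E, (⊤ : Subgroup S)⁆ with hC
      have hCE : C ≤ E := commutator_le_left E ⊤
      have hE1 : E ≠ ⊥ := by
        intro h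
        rw [h, card_bot] at hEc
        exact absurd hEc.symm (Nat.one_lt_pow two_ne_zero (Fact.out : p.Prime).one_lt).ne'
      have hlt : C < E := by
        refine lt_of_le_of_ne hCE fun h => hE1 ?_
        have : ∀ m : ℕ, E ≤ (⊤ : Subgroup S).lowerCentralSeries m := by
          intro m
          induction m with
          | zero => simp
          | succ m ihm =>
            refine h.ge.trans ((commutator_mono ihm le_rfl).trans ?_)
            exact le_of_eq (Subgroup.lowerCentralSeries_succ (⊤ : Subgroup S) m).symm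
        obtain ⟨m, hm⟩ := Subgroup.nilpotent_iff_lowerCentralSeries.1 (inferInstance : Group.IsNilpotent S)
        exact le_bot_iff.1 (hm ▸ this m)
      haveI : C.Normal := inferInstance
      by_cases hC1 : C = ⊥
      · rw [hC1]; exact bot_le
      have hCp : Nat.card C = p := by
        obtain ⟨i, hi, hic⟩ := (Nat.dvd_prime_pow (Fact.out : p.Prime)).1
          (hEc ▸ card_dvd_of_le hCE)
        interval_cases i
        · exact absurd (eq_bot_of_card_eq C (by simpa using hic)) hC1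
        · simpa using hic
        · exact absurd (eq_of_le_of_card_ge hCE (by rw [hic, hEc])) hlt.ne
      obtain ⟨z, hz, hz1⟩ := Subgroup.bot_or_exists_ne_one
        (C ⊓ Subgroup.center ↥S) |>.resolve_left (PGroup.inf_center_ne_bot (hG.to_subgroup S) C hC1)
      intro c hc
      have : C ⊓ Subgroup.center ↥S = C := by
        refine eq_of_le_of_card_ge inf_le_left ?_
        rw [hCp]
        have h2 : Nat.card ↥(C ⊓ Subgroup.center ↥S) ∣ p := hCp ▸ card_dvd_of_le inf_le_left
        rcases (Nat.dvd_prime (Fact.out : p.Prime)).1 h2 with h3 | h3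
        · exact absurd (mem_bot.1 (eq_bot_of_card_eq _ h3 ▸ hz)) hz1
        · exact h3.ge
      exact (this.ge hc).2
    exact congrArg Subtype.val (Subgroup.mem_center_iff.1 (hlt hs') ⟨t, ht⟩)
  obtain ⟨A, hAn, -, hAΩ, hAc⟩ := PGroup.exists_normal_card_eq hG (k := 2)
    (bot_le : (⊥ : Subgroup G) ≤ Ω) (by simp [Nat.one_le_pow _ _ (Fact.out : p.Prime).pos])
    (by
      rw [← hEc, ← card_map_of_injective S.subtype_injective]
      exact card_le_of_le hEΩ)
  exact ⟨A, hAΩ.trans fun x hx => hTS hx.1, hAn,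
    ⟨⟨⟨IsPGroup.commutative_of_card_eq_prime_sq hAc⟩⟩, fun x hx => (hAΩ hx).2⟩, hAc⟩

/-- For odd `p`, `Ω₁` of a noncyclic metacyclic `p`-group is elementary abelian of order `p²`. -/
theorem omega_metacyclic [Finite G] [Fact p.Prime] (hp : p ≠ 2) (hG : IsPGroup p G)
    (hm : Cfsg.IsMetacyclic G) (hnc : ¬ IsCyclic G) :
    Cfsg.IsElementaryAbelian p (Cfsg.omegaOne p (⊤ : Subgroup G)) ∧
      Nat.card ↥(Cfsg.omegaOne p (⊤ : Subgroup G)) = p ^ 2 := by
  obtain ⟨N, hNn, hNc, hQc⟩ := hm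
  obtain ⟨E, hEn, hEc, hEcomm, hEp⟩ := Known.exists_normal_elemAb_sq hp hG hnc
  haveI := hEn
  have hpp := (Fact.out : p.Prime)
  suffices h : Cfsg.omegaOne p (⊤ : Subgroup G) = E by
    rw [h]; exact ⟨⟨hEcomm, hEp⟩, hEc⟩
  refine le_antisymm ((closure_le E).2 ?_) fun x hx =>
    subset_closure ⟨mem_top x, hEp x hx⟩
  set π := QuotientGroup.mk' N with hπ
  -- in a cyclic group the elements of exponent `p` form a group of order at most `p`
  have hsmall : ∀ {C : Type _} [Group C] [Finite C], IsCyclic C → ∀ K : Subgroup C,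
      (∀ x ∈ K, x ^ p = 1) → Nat.card K ≤ p := by
    intro C _ _ hC K hK
    obtain ⟨g, hg⟩ := (inferInstance : IsCyclic K).exists_generator
    rw [← orderOf_eq_card_of_forall_mem_zpowers hg]
    exact Nat.le_of_dvd hpp.pos (orderOf_dvd_of_pow_eq_one (Subtype.ext (by simpa using hK g g.2)))
  set Z := E ⊓ N with hZ
  have hZp : Nat.card Z ≤ p := by
    rw [← Nat.card_congr (subgroupOfEquivOfLe (inf_le_right : Z ≤ N)).toEquiv]
    exact hsmall hNc _ fun x hx => Subtype.ext (by simpa using hEp x hx.1)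
  have hEQ : Nat.card (E.map π) ≤ p := hsmall hQc _ (by
    rintro _ ⟨x, hx, rfl⟩
    rw [← map_pow, hEp x hx, map_one])
  have hmul : Nat.card Z * Nat.card (E.map π) = p ^ 2 := by
    rw [hπ, PSolv.card_map_mk_eq_relIndex, hZ, inf_comm, ← inf_relIndex_right N E,
      ← relIndex_bot_left, relIndex_mul_relIndex _ _ _ bot_le inf_le_right, relIndex_bot_left, hEc]
  have hEQp : Nat.card (E.map π) = p := by
    refine le_antisymm hEQ (Nat.le_of_not_lt fun h => ?_)
    have : Nat.card Z * Nat.card (E.map π) < p * p := by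
      calc _ ≤ p * Nat.card (E.map π) := Nat.mul_le_mul_right _ hZp
        _ < p * p := Nat.mul_lt_mul_of_pos_left h hpp.pos
    rw [hmul, pow_two] at this
    exact lt_irrefl _ this
  have hZcard : Nat.card Z = p := by
    rw [hEQp, pow_two] at hmul
    exact Nat.eq_of_mul_eq_mul_right hpp.pos hmul
  have hZcen : Z ≤ Subgroup.center G := by
    intro z hz
    haveI : Z.Normal := inferInstance
    have hne : Z ≠ ⊥ := fun h => by
      rw [h, card_bot] at hZcard
      exact hpp.one_lt.ne hZcard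
    have hi := PGroup.inf_center_ne_bot hG Z hne
    have : Z ⊓ Subgroup.center G = Z := by
      refine eq_of_le_of_card_ge inf_le_left ?_
      have h2 : Nat.card ↥(Z ⊓ Subgroup.center G) ∣ p := hZcard ▸ card_dvd_of_le inf_le_left
      rcases (Nat.dvd_prime hpp).1 h2 with h3 | h3
      · exact absurd (eq_bot_of_card_eq _ h3) hi
      · rw [h3, hZcard]
    exact (this.ge hz).2
  rintro y ⟨-, hy⟩
  -- `y` lies in `E N`
  have hyE : π y ∈ E.map π := by
    by_contra hny
    let K : Subgroup (G ⧸ N) :=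
      { carrier := {q | q ^ p = 1}
        one_mem' := one_pow p
        mul_mem' := fun {u v} hu hv => by
          have hcm : Commute u v := hQc.isMulCommutative.is_comm.comm u v
          rw [Set.mem_setOf_eq, hcm.mul_pow, hu, hv, one_mul]
        inv_mem' := fun {u} hu => by rw [Set.mem_setOf_eq, inv_pow, hu, inv_one] }
    have hlt : E.map π < K := by
      refine lt_of_le_not_ge ?_ fun h => hny (h (by
        show π y ^ p = 1
        rw [← map_pow, hy, map_one]))
      rintro _ ⟨x, hx, rfl⟩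
      show π x ^ p = 1
      rw [← map_pow, hEp x hx, map_one]
    have := Set.ncard_lt_ncard hlt (Set.toFinite _)
    exact absurd (hsmall hQc K fun x hx => hx) (not_le.2 (hEQp ▸ this))
  obtain ⟨e, he, hee⟩ := hyE
  have hn : e⁻¹ * y ∈ N := by
    rw [← QuotientGroup.eq_one_iff, QuotientGroup.mk_mul, QuotientGroup.mk_inv, inv_mul_eq_one]
    exact hee
  set n := e⁻¹ * y with hn'
  have hye : e * n = y := by rw [hn']; group
  have hcen : ⁅n, e⁆ ∈ Z := by
    rw [hZ, Subgroup.mem_inf]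
    constructor
    · rw [commutatorElement_def]
      exact mul_mem (hEn.conj_mem e he n) (inv_mem he)
    · rw [commutatorElement_def, show n * e * n⁻¹ * e⁻¹ = n * (e * n⁻¹ * e⁻¹) by group]
      exact mul_mem hn (hNn.conj_mem _ (inv_mem hn) e)
  have hpow := PGroup.mul_pow_of_odd (hpp.odd_of_ne_two hp) (x := e) (y := n) (hZcen hcen)
    (hEp _ hcen.1)
  rw [hye, hy, hEp e he, one_mul] at hpow
  -- `n` has exponent `p` inside the cyclic group `N`
  have hnZ : n ∈ Z := by
    let K : Subgroup N :=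
      { carrier := {q | q ^ p = 1}
        one_mem' := one_pow p
        mul_mem' := fun {u v} hu hv => by
          have hcm : Commute u v := hNc.isMulCommutative.is_comm.comm u v
          rw [Set.mem_setOf_eq, hcm.mul_pow, hu, hv, one_mul]
        inv_mem' := fun {u} hu => by rw [Set.mem_setOf_eq, inv_pow, hu, inv_one] }
    have h1 : Z.subgroupOf N = K := by
      refine eq_of_le_of_card_ge (fun x hx => Subtype.ext (by simpa using hEp x hx.1)) ?_
      rw [Nat.card_congr (subgroupOfEquivOfLe (inf_le_right : Z ≤ N)).toEquiv, hZcard]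
      exact hsmall hNc K fun x hx => hx
    have h2 : (⟨n, hn⟩ : N) ∈ K := Subtype.ext (by simpa using hpow.symm)
    rw [← h1] at h2
    exact h2
  rw [SetLike.mem_coe, ← hye]
  exact mul_mem he hnZ.1

end Cfsg.Agent.Stability
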